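import Groth.Agent.CompDim.Flat
import Groth.Agent.Hensel.IntegralStrict

/-!
# Components of small dimension of a completion and maximal ideals of small height of the normalization

`C` plays the role of the completion of the Noetherian local domain `D`: it is henselian, faithfully
flat over `D`, its maximal ideal is extended from `D` and it has the same residue field.
-/

set_option autoImplicit false
set_option linter.style.haveILetI false
set_option linter.unusedSectionVars false

universe u

open IsLocalRing TensorProduct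

namespace Groth.Agent.CompDim

/-- The inclusion of the right factor, as an algebra structure, is flat. -/
theorem flat_includeRight (D C B : Type u) [CommRing D] [CommRing C] [CommRing B] [Algebra D C] [Algebra D B]
    [Module.Flat D C] : (Algebra.TensorProduct.includeRight : B →ₐ[D] C ⊗[D] B).toRingHom.Flat := by
  have e : (Algebra.TensorProduct.includeRight : B →ₐ[D] C ⊗[D] B).toRingHom =
      (Algebra.TensorProduct.comm D B C).toRingEquiv.toRingHom.comp (algebraMap B (B ⊗[D] C)) :=
    RingHom.ext fun b => by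
      show (1 : C) ⊗ₜ[D] b = Algebra.TensorProduct.comm D B C (algebraMap B (B ⊗[D] C) b)
      simp
  rw [e]
  exact RingHom.Flat.comp (RingHom.flat_algebraMap_iff.2 inferInstance)
    (RingHom.Flat.of_bijective (Algebra.TensorProduct.comm D B C).toRingEquiv.bijective)

theorem height_le_one_of_forall {R : Type u} [CommRing R] {p : Ideal R} [p.IsPrime]
    (h : ∀ q : Ideal R, q.IsPrime → q < p → q ∈ minimalPrimes R) : p.height ≤ 1 := by
  refine (Ideal.height_le_iff (n := 1)).2 fun q hq hlt => ?_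
  haveI := hq
  rw [Ideal.height_eq_zero_iff.2 (h q hq hlt)]
  exact Nat.cast_pos.2 one_pos

theorem mem_minimalPrimes_of_height_le_one {R : Type u} [CommRing R] {p q : Ideal R} [p.IsPrime] [q.IsPrime]
    (h : p.height ≤ 1) (hlt : q < p) : q ∈ minimalPrimes R := by
  have h' := (Ideal.height_le_iff (n := 1)).1 h q inferInstance hlt
  exact Ideal.height_eq_zero_iff.1 (ENat.lt_one_iff_eq_zero.1 h')

theorem height_le_one_of_comap {R S : Type u} [CommRing R] [IsDomain R] [CommRing S] [IsDomain S] [Algebra R S]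
    [Algebra.IsIntegral R S] (p : Ideal R) [p.IsPrime] (hp : p.height ≤ 1) (P : Ideal S) [P.IsPrime]
    (hP : P.comap (algebraMap R S) = p) : P.height ≤ 1 := by
  refine height_le_one_of_forall fun q hq hlt => ?_
  haveI := hq
  haveI : (q.comap (algebraMap R S)).IsPrime := Ideal.IsPrime.comap _
  have hlt' : q.comap (algebraMap R S) < p := hP ▸ Ideal.IsIntegral.comap_lt_comap hlt
  have h0 := mem_minimalPrimes_of_height_le_one hp hlt'
  rw [IsDomain.minimalPrimes_eq_singleton_bot, Set.mem_singleton_iff] at h0 ⊢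
  exact Ideal.eq_bot_of_comap_eq_bot h0

variable {D C : Type u} [CommRing D] [IsDomain D] [IsNoetherianRing D] [IsLocalRing D]
  [CommRing C] [IsNoetherianRing C] [IsLocalRing C] [Algebra D C] [Module.FaithfullyFlat D C]
  (hmap : (maximalIdeal D).map (algebraMap D C) = maximalIdeal C)
  (hres : ∀ c : C, ∃ d : D, c - algebraMap D C d ∈ maximalIdeal C)

include hmap hres in
theorem exists_sub_mem_pow (n : ℕ) (c : C) : ∃ d : D, c - algebraMap D C d ∈ maximalIdeal C ^ n := by
  induction n generalizing c with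
  | zero => exact ⟨0, by simp⟩
  | succ n ih =>
    obtain ⟨d, hd⟩ := ih c
    have key : ∀ y ∈ maximalIdeal C ^ n, ∃ d : D, y - algebraMap D C d ∈ maximalIdeal C ^ (n + 1) := by
      intro y hy
      rw [← hmap, ← Ideal.map_pow] at hy
      refine Submodule.span_induction ?_ ?_ ?_ ?_ hy
      · rintro _ ⟨r, -, rfl⟩; exact ⟨r, by simp⟩
      · exact ⟨0, by simp⟩
      · rintro a b - - ⟨da, ha⟩ ⟨db, hb⟩
        exact ⟨da + db, by rw [map_add, add_sub_add_comm]; exact add_mem ha hb⟩
      · rintro s y hy' ⟨dy, hdy⟩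
        obtain ⟨ds, hds⟩ := hres s
        refine ⟨ds * dy, ?_⟩
        have hy'' : y ∈ maximalIdeal C ^ n := by rw [← hmap, ← Ideal.map_pow]; exact hy'
        have e : s • y - algebraMap D C (ds * dy) =
            (s - algebraMap D C ds) * y + algebraMap D C ds * (y - algebraMap D C dy) := by
          rw [smul_eq_mul, map_mul]; ring
        rw [e]
        refine add_mem ?_ (Ideal.mul_mem_left _ _ hdy)
        rw [pow_succ']
        exact Ideal.mul_mem_mul hds hy''
    obtain ⟨d', hd'⟩ := key _ hd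
    exact ⟨d + d', by rwa [map_add, ← sub_sub]⟩

include hmap hres in
/-- A component of dimension at most one gives a maximal ideal of height at most one. -/
theorem exists_maximal_height_le_one {P : Ideal C} (hP : P ∈ minimalPrimes C)
    (hdim : ∀ R : Ideal C, R.IsPrime → P < R → R = maximalIdeal C) :
    ∃ m' : Ideal (integralClosure D (FractionRing D)), m'.IsMaximal ∧ m'.height ≤ 1 := by
  classical
  by_cases hF : maximalIdeal D = ⊥
  · obtain ⟨m', hm'⟩ := Ideal.exists_maximal (integralClosure D (FractionRing D))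
    refine ⟨m', hm', height_le_one_of_comap (⊥ : Ideal D) ?_ m' ?_⟩
    · rw [Ideal.height_bot]; exact zero_le_one
    · haveI := Ideal.isMaximal_comap_of_isIntegral_of_isMaximal (R := D) m'
      rw [IsLocalRing.eq_maximalIdeal this, hF]
  obtain ⟨x, hxm, hx0⟩ := Submodule.exists_mem_ne_zero_of_ne_bot hF
  haveI := hP.isPrime
  -- the kernel of the localization at `P` and a power of its annihilator
  let K : Ideal C := RingHom.ker (algebraMap C (Localization.AtPrime P))
  have hKmem : ∀ k ∈ K, ∃ s ∉ P, s * k = 0 := fun k hk => by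
    obtain ⟨⟨s, hs⟩, h⟩ := (IsLocalization.map_eq_zero_iff P.primeCompl (Localization.AtPrime P) k).1 hk
    exact ⟨s, hs, h⟩
  have hKP : K ≤ P := fun k hk => by
    obtain ⟨s, hs, h⟩ := hKmem k hk
    exact (hP.isPrime.mem_or_mem (show s * k ∈ P from h ▸ P.zero_mem)).resolve_left hs
  have hrad : ∀ Q : Ideal C, Q.IsPrime → K ≤ Q → P ≤ Q := by
    intro Q hQ hKQ p hp
    have hnil : IsNilpotent (algebraMap C (Localization.AtPrime P) p) := by
      rw [nilpotent_iff_mem_prime]
      intro J hJ
      haveI := hJ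
      haveI : (J.comap (algebraMap C (Localization.AtPrime P))).IsPrime := Ideal.IsPrime.comap _
      have hle : J.comap (algebraMap C (Localization.AtPrime P)) ≤ P := by
        have := IsLocalRing.le_maximalIdeal hJ.ne_top
        exact (Ideal.comap_mono this).trans_eq (IsLocalization.AtPrime.comap_maximalIdeal _ P)
      exact (hP.2 ⟨inferInstance, bot_le⟩ hle) hp
    obtain ⟨j, hj⟩ := hnil
    exact hQ.mem_of_pow_mem j (hKQ (show p ^ j ∈ K by rw [RingHom.mem_ker, map_pow, hj]))
  let I : Ideal C := Submodule.annihilator K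
  have hIP : ¬ I ≤ P := by
    obtain ⟨F, hF'⟩ := IsNoetherian.noetherian K
    have hs : ∀ k ∈ F, ∃ s ∉ P, s * k = 0 := fun k hk => hKmem k (hF' ▸ Ideal.subset_span hk)
    choose s hs hsk using hs
    intro hle
    have hmem : ∏ k ∈ F.attach, s k.1 k.2 ∈ I := by
      rw [Submodule.mem_annihilator]
      intro y hy
      rw [← hF'] at hy
      refine Submodule.span_induction ?_ ?_ ?_ ?_ hy
      · intro k hk
        rw [← Finset.mul_prod_erase _ _ (Finset.mem_attach F ⟨k, hk⟩), smul_eq_mul, mul_comm (s k hk), mul_assoc,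
          hsk k hk, mul_zero]
      · exact smul_zero _
      · intro a b _ _ ha hb; rw [smul_add, ha, hb, add_zero]
      · intro c a _ ha; rw [smul_comm, ha, smul_zero]
    obtain ⟨k, -, hk⟩ := hP.isPrime.prod_mem_iff.1 (hle hmem)
    exact hs k.1 k.2 hk
  obtain ⟨q, hq⟩ := Ideal.exists_pow_inf_eq_pow_smul I (K : Submodule C C)
  let I' : Ideal C := I ^ (q + 1)
  have hIK : ∀ a ∈ K, ∀ b ∈ I', a * b = 0 := fun a ha b hb => by
    rw [mul_comm]
    exact Submodule.mem_annihilator.1 (Ideal.pow_le_self q.succ_ne_zero hb) a ha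
  have hinf : ∀ a ∈ K, a ∈ I' → a = 0 := fun a ha hb => by
    have h1 : a ∈ (I ^ (q + 1) • ⊤ ⊓ (K : Submodule C C)) :=
      ⟨by rw [smul_eq_mul, Ideal.mul_top]; exact hb, ha⟩
    rw [hq (q + 1) (Nat.le_succ q), Nat.add_sub_cancel_left, pow_one] at h1
    have h2 : a ∈ I • (K : Submodule C C) := Submodule.smul_mono le_rfl inf_le_right h1
    rwa [Submodule.annihilator_smul, Submodule.mem_bot] at h2
  have hL : ∀ Q : Ideal C, Q.IsPrime → K ⊔ I' ≤ Q → Q = maximalIdeal C := fun Q hQ hle => by
    refine hdim Q hQ (lt_of_le_of_ne (hrad Q hQ (le_sup_left.trans hle)) fun he => hIP ?_)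
    rw [he]
    exact fun b hb => hQ.mem_of_pow_mem (q + 1) (hle (Ideal.mem_sup_right (Ideal.pow_mem_pow hb _)))
  obtain ⟨N, hN⟩ : ∃ N, maximalIdeal C ^ N ≤ K ⊔ I' := by
    refine Ideal.exists_pow_le_of_le_radical_of_fg ?_ (IsNoetherian.noetherian _)
    rw [Ideal.radical_eq_sInf]
    exact le_sInf fun Q hQ => (hL Q hQ.2 hQ.1).ge
  have hxN : algebraMap D C x ^ N ∈ K ⊔ I' :=
    hN (Ideal.pow_mem_pow (hmap ▸ Ideal.mem_map_of_mem _ hxm) N)
  obtain ⟨k, hk, a, ha, hka⟩ := Submodule.mem_sup.1 hxN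
  -- the colon ideal
  obtain ⟨s, y, hy⟩ := Submodule.fg_iff_exists_fin_generating_family.1
    (IsNoetherian.noetherian (maximalIdeal D ^ N))
  have hyN : ∀ j, y j ∈ maximalIdeal D ^ N := fun j => hy ▸ Submodule.subset_span ⟨j, rfl⟩
  have hb : ∀ j, ∃ b : C, algebraMap D C (y j) * a = algebraMap D C x ^ N * b := fun j => by
    have h1 : algebraMap D C (y j) ∈ maximalIdeal C ^ N := by
      rw [← hmap, ← Ideal.map_pow]; exact Ideal.mem_map_of_mem _ (hyN j)
    obtain ⟨k', hk', i', hi', hki⟩ := Submodule.mem_sup.1 (hN h1)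
    refine ⟨i', ?_⟩
    rw [← hki, ← hka, add_mul, add_mul, hIK k' hk' a ha, hIK k hk i' hi', zero_add, zero_add, mul_comm]
  choose b hb using hb
  let M : Matrix (Fin s) (Fin (s + 1)) D := Matrix.of fun j => Fin.cons (y j) (fun l => if l = j then -(x ^ N) else 0)
  have hMv : ∀ (R : Type u) [CommRing R] (f : D →+* R) (v : Fin (s + 1) → R) (j : Fin s),
      (M.map f).mulVec v j = f (y j) * v 0 - f x ^ N * v j.succ := fun R _ f v j => by
    simp [M, Matrix.mulVec, dotProduct, Fin.sum_univ_succ, sub_eq_add_neg, apply_ite f, Finset.sum_ite_eq',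
      ite_mul]
  have hsol := mem_span_solutions M (Fin.cons a b) (funext fun j => by
    rw [hMv, Fin.cons_zero, Fin.cons_succ, hb, sub_self, Pi.zero_apply])
  obtain ⟨w, c, hac⟩ : ∃ (w : D) (c : C), a = algebraMap D C w + algebraMap D C x ^ N * c := by
    have key : ∀ v ∈ Submodule.span C ((fun w => algebraMap D C ∘ w) '' {w : Fin (s + 1) → D | M.mulVec w = 0}),
        ∃ (w : D) (c : C), v 0 = algebraMap D C w + algebraMap D C x ^ N * c ∧
          ∀ r ∈ maximalIdeal D ^ N, ∃ b, algebraMap D C r * algebraMap D C w = algebraMap D C x ^ N * b := by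
      intro v hv
      refine Submodule.span_induction ?_ ?_ ?_ ?_ hv
      · rintro _ ⟨u, hu, rfl⟩
        refine ⟨u 0, 0, by simp, fun r hr => ?_⟩
        rw [← hy] at hr
        refine Submodule.span_induction ?_ ?_ ?_ ?_ hr
        · rintro _ ⟨j, rfl⟩
          refine ⟨algebraMap D C (u j.succ), ?_⟩
          have h := hMv D (RingHom.id D) u j
          rw [show (M.map (RingHom.id D)) = M from M.map_id, hu, Pi.zero_apply] at h
          simp only [RingHom.id_apply] at h
          rw [← map_mul, ← map_pow, ← map_mul, ← sub_eq_zero.1 h.symm]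
        · exact ⟨0, by simp⟩
        · rintro r₁ r₂ - - ⟨b₁, h₁⟩ ⟨b₂, h₂⟩
          exact ⟨b₁ + b₂, by rw [map_add, add_mul, h₁, h₂, mul_add]⟩
        · rintro d r - ⟨b₁, h₁⟩
          exact ⟨algebraMap D C d * b₁, by rw [smul_eq_mul, map_mul, mul_assoc, h₁]; ring⟩
      · exact ⟨0, 0, by simp, fun r _ => ⟨0, by simp⟩⟩
      · rintro v₁ v₂ - - ⟨w₁, c₁, h₁, g₁⟩ ⟨w₂, c₂, h₂, g₂⟩
        refine ⟨w₁ + w₂, c₁ + c₂, by rw [Pi.add_apply, h₁, h₂, map_add]; ring, fun r hr => ?_⟩
        obtain ⟨b₁, e₁⟩ := g₁ r hr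
        obtain ⟨b₂, e₂⟩ := g₂ r hr
        exact ⟨b₁ + b₂, by rw [map_add, mul_add, e₁, e₂, mul_add]⟩
      · rintro l v - ⟨w₁, c₁, h₁, g₁⟩
        obtain ⟨d, hd⟩ := exists_sub_mem_pow hmap hres N l
        have g' : ∀ t ∈ maximalIdeal C ^ N, ∃ b, t * algebraMap D C w₁ = algebraMap D C x ^ N * b := by
          intro t ht
          rw [← hmap, ← Ideal.map_pow] at ht
          refine Submodule.span_induction ?_ ?_ ?_ ?_ ht
          · rintro _ ⟨r, hr, rfl⟩; exact g₁ r hr
          · exact ⟨0, by simp⟩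
          · rintro t₁ t₂ - - ⟨b₁, e₁⟩ ⟨b₂, e₂⟩
            exact ⟨b₁ + b₂, by rw [add_mul, e₁, e₂, mul_add]⟩
          · rintro c t - ⟨b₁, e₁⟩
            exact ⟨c * b₁, by rw [smul_eq_mul, mul_assoc, e₁]; ring⟩
        obtain ⟨b₁, e₁⟩ := g' _ hd
        refine ⟨d * w₁, b₁ + l * c₁, ?_, fun r hr => ?_⟩
        · rw [Pi.smul_apply, smul_eq_mul, h₁, map_mul]
          linear_combination e₁
        · obtain ⟨b₂, e₂⟩ := g₁ r hr
          exact ⟨algebraMap D C d * b₂, by rw [map_mul, mul_left_comm, e₂]; ring⟩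
    obtain ⟨w, c, h, -⟩ := key _ hsol
    exact ⟨w, c, by rwa [Fin.cons_zero] at h⟩
  have haa : a * a = algebraMap D C x ^ N * a := by
    rw [← hka, add_mul, hIK k hk a ha, zero_add]
  -- `z = w / x ^ N` is integral
  obtain ⟨α, β, hαβ⟩ : ∃ α β : D, w * w = α * (x ^ N * w) + β * (x ^ N * x ^ N) := by
    have h : algebraMap D C (w * w) ∈
        (Ideal.span {x ^ N * w, x ^ N * x ^ N}).map (algebraMap D C) := by
      rw [Ideal.map_span, Set.image_pair, Ideal.mem_span_pair]
      refine ⟨1 - 2 * c, c - c * c, ?_⟩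
      rw [hac] at haa
      simp only [map_mul, map_pow]
      linear_combination -haa
    rw [← Ideal.mem_comap, Ideal.comap_map_eq_self_of_faithfullyFlat, Ideal.mem_span_pair] at h
    obtain ⟨α, β, h⟩ := h
    exact ⟨α, β, h.symm⟩
  let F := FractionRing D
  have hxN0 : algebraMap D F (x ^ N) ≠ 0 :=
    (map_ne_zero_iff _ (IsFractionRing.injective D F)).2 (pow_ne_zero _ hx0)
  let z : F := algebraMap D F w / algebraMap D F (x ^ N)
  have hzint : IsIntegral D z := by
    refine ⟨Polynomial.X ^ 2 - (Polynomial.C α * Polynomial.X + Polynomial.C β), by monicity!, ?_⟩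
    have h := congrArg (algebraMap D F) hαβ
    simp only [map_add, map_mul] at h
    simp only [Polynomial.eval₂_sub, Polynomial.eval₂_add, Polynomial.eval₂_mul, Polynomial.eval₂_pow,
      Polynomial.eval₂_X, Polynomial.eval₂_C, z]
    rw [sub_eq_zero, div_pow, mul_div_assoc', div_add' _ _ _ hxN0, div_eq_div_iff (pow_ne_zero 2 hxN0) hxN0]
    linear_combination (algebraMap D F (x ^ N)) * h
  let B := Algebra.adjoin D {z}
  haveI : Module.Finite D B := Algebra.finite_adjoin_simple_of_isIntegral hzint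
  haveI : IsNoetherianRing B := IsNoetherianRing.of_finite D B
  let C' := C ⊗[D] B
  let iR : B →+* C' := (Algebra.TensorProduct.includeRight : B →ₐ[D] C ⊗[D] B).toRingHom
  let iL : C →+* C' := algebraMap C C'
  have hcomm : ∀ d, iR (algebraMap D B d) = iL (algebraMap D C d) := fun d => by
    simp only [iR, iL, AlgHom.toRingHom_eq_coe, RingHom.coe_coe, AlgHom.commutes, ← IsScalarTower.algebraMap_apply]
    rfl
  letI algB : Algebra B C' := iR.toAlgebra
  haveI : Module.Flat B C' := flat_includeRight D C B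
  haveI : Algebra.HasGoingDown B C' := Algebra.HasGoingDown.of_flat
  haveI : IsNoetherianRing C' := IsNoetherianRing.of_finite C C'
  have hinjB : Function.Injective (algebraMap D B) := fun p q h =>
    IsFractionRing.injective D F (congrArg Subtype.val h)
  have hinj : Function.Injective iL := Algebra.TensorProduct.includeLeft_injective (S := C) hinjB
  let zB : B := ⟨z, Algebra.subset_adjoin rfl⟩
  have hxz : algebraMap D B (x ^ N) * zB = algebraMap D B w := Subtype.ext (mul_div_cancel₀ _ hxN0)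
  have hreg : ∀ t : C', iR (algebraMap D B (x ^ N)) * t = 0 → t = 0 := fun t ht => by
    refine Module.Flat.isSMulRegular_of_nonZeroDivisors (R := B) (M := C') (r := algebraMap D B (x ^ N)) ?_ ?_
    · exact mem_nonZeroDivisors_of_ne_zero ((map_ne_zero_iff _ hinjB).2 (pow_ne_zero _ hx0))
    · exact ht.trans (mul_zero (iR (algebraMap D B (x ^ N)))).symm
  let e : C' := iR zB + iL c
  have hxe : iR (algebraMap D B (x ^ N)) * e = iL a := by
    rw [hac, mul_add, ← map_mul iR, hxz, hcomm, hcomm, map_add iL, map_mul iL, map_pow (algebraMap D C)]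
  have hee : e * (1 - e) = 0 := by
    refine hreg _ (hreg _ ?_)
    have h1 := congrArg iL haa
    rw [map_mul, map_mul, ← map_pow, ← hcomm, ← hxe] at h1
    linear_combination -h1
  have hKe : ∀ k' ∈ K, iL k' * e = 0 := fun k' hk' => by
    refine hreg _ ?_
    rw [← mul_assoc, mul_comm _ (iL k'), mul_assoc, hxe, ← map_mul, hIK k' hk' a ha, map_zero]
  have hne : ¬ IsUnit (1 - e) := fun hu => by
    have he : e = 0 := hu.mul_left_eq_zero.1 hee
    rw [he, mul_zero] at hxe
    have ha0 : a = 0 := hinj (hxe.symm.trans (map_zero iL).symm)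
    rw [ha0, add_zero] at hka
    obtain ⟨t, ht, htk⟩ := hKmem k hk
    rw [hka] at htk
    have htx : IsSMulRegular C (x ^ N) :=
      Module.Flat.isSMulRegular_of_nonZeroDivisors (mem_nonZeroDivisors_of_ne_zero (pow_ne_zero _ hx0))
    have : t = 0 := htx (by
      show x ^ N • t = x ^ N • (0 : C)
      rw [smul_zero, Algebra.smul_def, map_pow, mul_comm]
      exact htk)
    exact ht (this ▸ P.zero_mem)
  obtain ⟨Mx, hMx, heM⟩ := Ideal.exists_le_maximal (Ideal.span {1 - e})
    (fun h => hne (Ideal.span_singleton_eq_top.1 h))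
  rw [Ideal.span_singleton_le_iff_mem] at heM
  haveI := hMx
  have hMC : Mx.comap iL = maximalIdeal C :=
    IsLocalRing.eq_maximalIdeal (Ideal.isMaximal_comap_of_isIntegral_of_isMaximal (R := C) Mx)
  have hlow : ∀ r : Ideal C', r.IsPrime → r < Mx → K ≤ r.comap iL := fun r hr hlt k' hk' => by
    have her : e ∉ r := fun h => hMx.ne_top ((Ideal.eq_top_iff_one _).2 (by
      simpa using Mx.add_mem (hlt.le h) heM))
    exact (hr.mem_or_mem (show iL k' * e ∈ r from (hKe k' hk').symm ▸ r.zero_mem)).resolve_right her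
  have hMht : Mx.height ≤ 1 := by
    refine height_le_one_of_forall fun r hr hlt => ?_
    haveI := hr
    refine ⟨⟨hr, bot_le⟩, fun r' hr' hle => ?_⟩
    by_contra hnot
    haveI := hr'.1
    haveI : (r.comap iL).IsPrime := Ideal.IsPrime.comap iL
    haveI : (r'.comap iL).IsPrime := Ideal.IsPrime.comap iL
    have h1 : r.comap iL < maximalIdeal C := hMC ▸ Ideal.IsIntegral.comap_lt_comap hlt
    have h2 : r'.comap iL < r.comap iL := Ideal.IsIntegral.comap_lt_comap (lt_of_le_not_ge hle hnot)
    have hPr : r.comap iL = P := by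
      rcases (hrad _ inferInstance (hlow r hr hlt)).lt_or_eq with h | h
      · exact absurd (hdim _ inferInstance h) h1.ne
      · exact h.symm
    rw [hPr] at h2
    exact h2.not_ge (hP.2 ⟨inferInstance, bot_le⟩ h2.le)
  let n : Ideal B := Mx.comap iR
  haveI : n.IsPrime := Ideal.IsPrime.comap iR
  haveI : n.IsMaximal := by
    refine Ideal.isMaximal_of_isIntegral_of_isMaximal_comap (R := D) n ?_
    have : n.comap (algebraMap D B) = maximalIdeal D := by
      haveI := IsLocalRing.maximalIdeal.isMaximal D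
      ext d
      rw [Ideal.mem_comap, Ideal.mem_comap, hcomm, ← Ideal.mem_comap, hMC]
      conv_lhs => rw [← hmap, ← Ideal.mem_comap, Ideal.comap_map_eq_self_of_faithfullyFlat]
    rw [this]
    infer_instance
  haveI : Mx.LiesOver n := ⟨rfl⟩
  have hn : n.height ≤ 1 := by
    refine le_trans ?_ hMht
    rw [Ideal.height_eq_height_add_of_liesOver_of_hasGoingDown n Mx]
    exact le_self_add
  have hBle : B ≤ integralClosure D F := Algebra.adjoin_le (Set.singleton_subset_iff.2 hzint)
  letI : Algebra B (integralClosure D F) := (Subalgebra.inclusion hBle).toRingHom.toAlgebra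
  haveI : IsScalarTower D B (integralClosure D F) := IsScalarTower.of_algebraMap_eq fun _ => rfl
  haveI : Algebra.IsIntegral B (integralClosure D F) := Algebra.IsIntegral.tower_top D
  obtain ⟨m', -, hm', hcomap⟩ := Ideal.exists_ideal_over_prime_of_isIntegral (S := integralClosure D F) n ⊥
    (fun b hb => by
      rw [Ideal.mem_comap, Ideal.mem_bot] at hb
      have hb0 : b = 0 := Subalgebra.inclusion_injective hBle (hb.trans (map_zero _).symm)
      rw [hb0]; exact n.zero_mem)
  exact ⟨m', Ideal.isMaximal_of_isIntegral_of_isMaximal_comap (R := B) m' (hcomap.symm ▸ inferInstance),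
    height_le_one_of_comap n hn m' hcomap⟩

variable [HenselianLocalRing C]

include hmap hres in
set_option maxHeartbeats 1000000 in
/-- A maximal ideal of height at most one gives a component of dimension at most one. -/
theorem exists_minimalPrime_dim_le_one (m' : Ideal (integralClosure D (FractionRing D))) [m'.IsMaximal]
    (hm' : m'.height ≤ 1) :
    ∃ P ∈ minimalPrimes C, ∀ R : Ideal C, R.IsPrime → P < R → R = maximalIdeal C := by
  classical
  by_cases hF : maximalIdeal D = ⊥
  · have h0 : maximalIdeal C = ⊥ := by rw [← hmap, hF, Ideal.map_bot]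
    refine ⟨maximalIdeal C, ⟨⟨inferInstance, bot_le⟩, fun q hq hle => ?_⟩, fun R hR hlt => ?_⟩
    · rw [h0]; exact bot_le
    · exact absurd (IsLocalRing.le_maximalIdeal hR.ne_top) hlt.not_ge
  obtain ⟨x, hxm, hx0⟩ := Submodule.exists_mem_ne_zero_of_ne_bot hF
  let D' := integralClosure D (FractionRing D)
  let C'' := C ⊗[D] D'
  let iR : D' →+* C'' := (Algebra.TensorProduct.includeRight : D' →ₐ[D] C ⊗[D] D').toRingHom
  let iL : C →+* C'' := algebraMap C C''
  have hcomm : ∀ d, iR (algebraMap D D' d) = iL (algebraMap D C d) := fun d => by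
    simp only [iR, iL, AlgHom.toRingHom_eq_coe, RingHom.coe_coe, AlgHom.commutes, ← IsScalarTower.algebraMap_apply]
    rfl
  letI algD' : Algebra D' C'' := iR.toAlgebra
  haveI : Module.Flat D' C'' := flat_includeRight D C D'
  have hinjD : Function.Injective (algebraMap D D') := fun p q h =>
    IsFractionRing.injective D (FractionRing D) (congrArg Subtype.val h)
  have hmD : m'.comap (algebraMap D D') = maximalIdeal D :=
    IsLocalRing.eq_maximalIdeal (Ideal.isMaximal_comap_of_isIntegral_of_isMaximal m')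
  -- the residue map
  letI := Ideal.Quotient.field m'
  obtain ⟨fC, hfC⟩ : ∃ fC : C →ₐ[D] D' ⧸ m', True := by
    let g : ResidueField D →+* ResidueField C :=
      Ideal.Quotient.lift _ ((residue C).comp (algebraMap D C)) fun d hd => by
        rw [RingHom.comp_apply, residue_eq_zero_iff]
        exact hmap ▸ Ideal.mem_map_of_mem _ hd
    have hg : Function.Bijective g := ⟨g.injective, fun y => by
      obtain ⟨c, rfl⟩ := residue_surjective y
      obtain ⟨d, hd⟩ := hres c
      refine ⟨residue D d, ?_⟩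
      show residue C (algebraMap D C d) = residue C c
      exact (Ideal.Quotient.eq.2 hd).symm⟩
    let k : ResidueField D →+* D' ⧸ m' := Ideal.Quotient.lift _ ((Ideal.Quotient.mk _).comp (algebraMap D D'))
      fun d hd => Ideal.Quotient.eq_zero_iff_mem.2 (hmD.ge hd)
    refine ⟨{ k.comp ((RingEquiv.ofBijective g hg).symm.toRingHom.comp (residue C)) with
      commutes' := fun d => ?_ }, trivial⟩
    show k ((RingEquiv.ofBijective g hg).symm (residue C (algebraMap D C d))) = _
    rw [show residue C (algebraMap D C d) = RingEquiv.ofBijective g hg (residue D d) from rfl,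
      RingEquiv.symm_apply_apply]
    rfl
  let ψ : C'' →ₐ[D] D' ⧸ m' := Algebra.TensorProduct.lift fC (Ideal.Quotient.mkₐ D m') fun _ _ => Commute.all _ _
  have hψR : ∀ b, ψ (iR b) = Ideal.Quotient.mk m' b := fun b => by
    show Algebra.TensorProduct.lift fC (Ideal.Quotient.mkₐ D m') (fun _ _ => Commute.all _ _) ((1 : C) ⊗ₜ[D] b) = _
    rw [Algebra.TensorProduct.lift_tmul, map_one, one_mul]
    rfl
  have htm : ∀ (c : C) (b : D'), c ⊗ₜ[D] b = iL c * iR b := fun c b => by
    show c ⊗ₜ[D] b = (c ⊗ₜ[D] (1 : D')) * ((1 : C) ⊗ₜ[D] b)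
    rw [Algebra.TensorProduct.tmul_mul_tmul, mul_one, one_mul]
  haveI hMx : (RingHom.ker ψ).IsMaximal := RingHom.ker_isMaximal_of_surjective ψ fun y => by
    obtain ⟨b, rfl⟩ := Ideal.Quotient.mk_surjective y
    exact ⟨iR b, hψR b⟩
  let Mx : Ideal C'' := RingHom.ker ψ
  have hMm : Mx.comap iR = m' := by
    ext b
    rw [Ideal.mem_comap, RingHom.mem_ker, hψR, Ideal.Quotient.eq_zero_iff_mem]
  have hdecomp : ∀ t : C'', ∃ b : D', t - iR b ∈ m'.map iR := fun t => by
    induction t using TensorProduct.induction_on with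
    | zero => exact ⟨0, by simp⟩
    | add t₁ t₂ h₁ h₂ =>
      obtain ⟨b₁, h₁⟩ := h₁
      obtain ⟨b₂, h₂⟩ := h₂
      exact ⟨b₁ + b₂, by rw [map_add, add_sub_add_comm]; exact add_mem h₁ h₂⟩
    | tmul c b =>
      obtain ⟨d, hd⟩ := hres c
      refine ⟨algebraMap D D' d * b, ?_⟩
      have e : c ⊗ₜ[D] b - iR (algebraMap D D' d * b) = iL (c - algebraMap D C d) * iR b := by
        rw [map_mul, hcomm, map_sub, sub_mul, htm]
      rw [e]
      refine Ideal.mul_mem_right _ _ ?_
      have h : iL (c - algebraMap D C d) ∈ ((maximalIdeal D).map (algebraMap D C)).map iL :=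
        Ideal.mem_map_of_mem _ (hmap.symm ▸ hd)
      rw [Ideal.map_map, show iL.comp (algebraMap D C) = iR.comp (algebraMap D D') from
        RingHom.ext fun d => (hcomm d).symm, ← Ideal.map_map] at h
      exact Ideal.map_mono (Ideal.map_le_iff_le_comap.2 hmD.ge) h
  have hMeq : ∀ r : Ideal C'', r ≤ Mx → m' ≤ r.comap iR → r = Mx := fun r hle hm => by
    refine le_antisymm hle fun t ht => ?_
    obtain ⟨b, hb⟩ := hdecomp t
    have hbM : t - iR b ∈ Mx := Ideal.map_le_iff_le_comap.2 hMm.ge hb
    have hb' : b ∈ m' := hMm.le (show iR b ∈ Mx by simpa using Mx.sub_mem ht hbM)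
    simpa using r.add_mem (Ideal.map_le_iff_le_comap.2 hm hb) (hm hb')
  have hMC : Mx.comap iL = maximalIdeal C :=
    IsLocalRing.eq_maximalIdeal (Ideal.isMaximal_comap_of_isIntegral_of_isMaximal (R := C) Mx)
  -- a minimal prime below
  obtain ⟨Q, hQ, hQM⟩ := Ideal.exists_minimalPrimes_le (show (⊥ : Ideal C'') ≤ Mx from bot_le)
  haveI := hQ.isPrime
  haveI : (Q.comap iL).IsPrime := Ideal.IsPrime.comap iL
  have hQnz : ∀ d : D, d ≠ 0 → iR (algebraMap D D' d) ∉ Q := fun d hd hmem => by
    refine Set.disjoint_left.1 (Ideal.disjoint_nonZeroDivisors_of_mem_minimalPrimes hQ) hmem ?_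
    refine mem_nonZeroDivisors_iff_right.2 fun t ht => ?_
    refine Module.Flat.isSMulRegular_of_nonZeroDivisors (R := D') (M := C'') (r := algebraMap D D' d)
      (mem_nonZeroDivisors_of_ne_zero ((map_ne_zero_iff _ hinjD).2 hd)) ?_
    exact ((mul_comm _ _).trans ht).trans (mul_zero (iR (algebraMap D D' d))).symm
  have hbir : ∀ t : C'', ∃ (d : D) (c : C), d ≠ 0 ∧ iR (algebraMap D D' d) * t = iL c := fun t => by
    induction t using TensorProduct.induction_on with
    | zero => exact ⟨1, 0, one_ne_zero, by simp⟩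
    | add t₁ t₂ h₁ h₂ =>
      obtain ⟨d₁, c₁, hd₁, h₁⟩ := h₁
      obtain ⟨d₂, c₂, hd₂, h₂⟩ := h₂
      refine ⟨d₁ * d₂, algebraMap D C d₂ * c₁ + algebraMap D C d₁ * c₂, mul_ne_zero hd₁ hd₂, ?_⟩
      rw [map_mul, map_mul, map_add, map_mul iL, map_mul iL, ← h₁, ← h₂, hcomm, hcomm]
      ring
    | tmul c b =>
      obtain ⟨⟨w, ⟨d, hd⟩⟩, hwd⟩ := IsLocalization.surj (nonZeroDivisors D) (b : FractionRing D)
      refine ⟨d, c * algebraMap D C w, nonZeroDivisors.ne_zero hd, ?_⟩
      have h : algebraMap D D' d * b = algebraMap D D' w := Subtype.ext ((mul_comm _ _).trans hwd)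
      rw [htm, mul_left_comm, ← map_mul iR, h, hcomm, ← map_mul]
  refine ⟨Q.comap iL, ⟨⟨inferInstance, bot_le⟩, fun P' hP' hle => ?_⟩, fun R hR hlt => ?_⟩
  · haveI := hP'.1
    obtain ⟨Q', -, hQ'p, hQ'⟩ := Ideal.exists_ideal_over_prime_of_isIntegral (S := C'') P' ⊥ (fun c hc => by
      rw [Ideal.mem_comap, Ideal.mem_bot] at hc
      have : c = 0 := Algebra.TensorProduct.includeLeft_injective (S := C) hinjD (hc.trans (map_zero iL).symm)
      rw [this]; exact P'.zero_mem)
    have hQ'Q : Q' ≤ Q := fun t ht => by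
      obtain ⟨d, c, hd, hdc⟩ := hbir t
      have h1 : c ∈ P' := hQ'.le (show iL c ∈ Q' from hdc ▸ Q'.mul_mem_left _ ht)
      have h2 : iR (algebraMap D D' d) * t ∈ Q := hdc.symm ▸ hle h1
      exact (hQ.isPrime.mem_or_mem h2).resolve_left (hQnz d hd)
    have := hQ.2 ⟨hQ'p, bot_le⟩ hQ'Q
    exact (Ideal.comap_mono this).trans hQ'.le
  haveI := hR
  haveI : IsLocalRing (C'' ⧸ Q) := Hensel.isLocalRing_of_isIntegral_domain C (C'' ⧸ Q)
  -- the maximal ideal is the only prime of `C ⧸ P` containing `x`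
  have hx : ∀ R' : Ideal C, R'.IsPrime → Q.comap iL ≤ R' → algebraMap D C x ∈ R' → R' = maximalIdeal C := by
    intro R' hR' hle hxR
    haveI := hR'
    obtain ⟨Q'', hQQ, hQ''p, hQ''⟩ := Ideal.exists_ideal_over_prime_of_isIntegral (S := C'') R' Q hle
    have hQM' : Q'' ≤ Mx := by
      obtain ⟨M₂, hM₂, hle₂⟩ := Ideal.exists_le_maximal Q'' hQ''p.ne_top
      haveI := hM₂
      have e : ∀ M₀ : Ideal C'', M₀.IsMaximal → Q ≤ M₀ →
          M₀ = (maximalIdeal (C'' ⧸ Q)).comap (Ideal.Quotient.mk Q) := fun M₀ hM₀ hQ₀ => by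
        haveI := hM₀.map_of_surjective_of_ker_le (f := Ideal.Quotient.mk Q) Ideal.Quotient.mk_surjective
          (by rwa [Ideal.mk_ker])
        rw [← IsLocalRing.eq_maximalIdeal this, Ideal.comap_map_of_surjective _ Ideal.Quotient.mk_surjective,
          ← RingHom.ker_eq_comap_bot, Ideal.mk_ker, sup_eq_left.2 hQ₀]
      exact hle₂.trans_eq ((e M₂ hM₂ (hQQ.trans hle₂)).trans (e Mx hMx hQM).symm)
    haveI : (Q''.comap iR).IsPrime := Ideal.IsPrime.comap iR
    have hxQ : algebraMap D D' x ∈ Q''.comap iR := by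
      rw [Ideal.mem_comap, hcomm, ← Ideal.mem_comap]
      exact hQ''.symm ▸ hxR
    have hm : Q''.comap iR = m' := by
      have hle' : Q''.comap iR ≤ m' := hMm ▸ Ideal.comap_mono hQM'
      by_contra hne
      have h0 := mem_minimalPrimes_of_height_le_one hm' (lt_of_le_of_ne hle' hne)
      rw [IsDomain.minimalPrimes_eq_singleton_bot, Set.mem_singleton_iff] at h0
      rw [h0, Ideal.mem_bot, map_eq_zero_iff _ hinjD] at hxQ
      exact hx0 hxQ
    rw [← hQ'', hMeq Q'' hQM' hm.ge]
    exact hMC
  by_cases hxR : algebraMap D C x ∈ R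
  · exact hx R hR hlt.le hxR
  -- otherwise contradict Krull's principal ideal theorem in `C ⧸ P`
  exfalso
  let Cb := C ⧸ Q.comap iL
  haveI : IsLocalRing Cb := IsLocalRing.of_surjective' (Ideal.Quotient.mk _) Ideal.Quotient.mk_surjective
  have hmin : maximalIdeal Cb ∈ (Ideal.span {Ideal.Quotient.mk (Q.comap iL) (algebraMap D C x)}).minimalPrimes := by
    refine ⟨⟨inferInstance, ?_⟩, fun J hJ hJle => ?_⟩
    · rw [Ideal.span_singleton_le_iff_mem, ← map_maximalIdeal_of_surjective (Ideal.Quotient.mk (Q.comap iL))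
        Ideal.Quotient.mk_surjective]
      exact Ideal.mem_map_of_mem _ (hmap ▸ Ideal.mem_map_of_mem _ hxm)
    · haveI := hJ.1
      have h := hx (J.comap (Ideal.Quotient.mk _)) (Ideal.IsPrime.comap _)
        (fun c hc => by rw [Ideal.mem_comap, Ideal.Quotient.eq_zero_iff_mem.2 hc]; exact J.zero_mem)
        (hJ.2 (Ideal.mem_span_singleton_self _))
      rw [← map_maximalIdeal_of_surjective (Ideal.Quotient.mk (Q.comap iL)) Ideal.Quotient.mk_surjective, ← h,
        Ideal.map_comap_of_surjective _ Ideal.Quotient.mk_surjective]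
  have hht : (maximalIdeal Cb).height ≤ 1 := Ideal.height_le_one_of_isPrincipal_of_mem_minimalPrimes _ _ hmin
  have hker : RingHom.ker (Ideal.Quotient.mk (Q.comap iL)) ≤ R := by rw [Ideal.mk_ker]; exact hlt.le
  haveI : (R.map (Ideal.Quotient.mk (Q.comap iL))).IsPrime :=
    Ideal.map_isPrime_of_surjective Ideal.Quotient.mk_surjective hker
  have hcm : (R.map (Ideal.Quotient.mk (Q.comap iL))).comap (Ideal.Quotient.mk (Q.comap iL)) = R := by
    rw [Ideal.comap_map_of_surjective _ Ideal.Quotient.mk_surjective, ← RingHom.ker_eq_comap_bot, sup_eq_left.2 hker]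
  have hxC : algebraMap D C x ∈ maximalIdeal C := hmap ▸ Ideal.mem_map_of_mem _ hxm
  have hlt' : R.map (Ideal.Quotient.mk (Q.comap iL)) < maximalIdeal Cb := by
    refine lt_of_le_of_ne (IsLocalRing.le_maximalIdeal Ideal.IsPrime.ne_top') fun he => hxR ?_
    rw [← hcm, he, Ideal.mem_comap, ← map_maximalIdeal_of_surjective (Ideal.Quotient.mk (Q.comap iL))
      Ideal.Quotient.mk_surjective]
    exact Ideal.mem_map_of_mem _ hxC
  have h0 := mem_minimalPrimes_of_height_le_one hht hlt'
  rw [IsDomain.minimalPrimes_eq_singleton_bot, Set.mem_singleton_iff, Ideal.map_eq_bot_iff_le_ker, Ideal.mk_ker] at h0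
  exact hlt.not_ge h0

end Groth.Agent.CompDim
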