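import Mathlib

/-!
# Solutions of linear equations and the extension of scalars along a flat map
-/

set_option autoImplicit false
set_option linter.style.haveILetI false

universe u

open TensorProduct Matrix

namespace Groth.Agent.CompDim

/-- A solution over a flat extension lies in the span of the solutions over the base. -/
theorem mem_span_solutions {D C : Type u} [CommRing D] [CommRing C] [Algebra D C] [Module.Flat D C]
    {m n : ℕ} (M : Matrix (Fin n) (Fin m) D) (v : Fin m → C) (h : (M.map (algebraMap D C)).mulVec v = 0) :
    v ∈ Submodule.span C ((fun w => algebraMap D C ∘ w) '' {w : Fin m → D | M.mulVec w = 0}) := by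
  classical
  let em := TensorProduct.piScalarRight D C C (Fin m)
  let en := TensorProduct.piScalarRight D C C (Fin n)
  let L := Matrix.toLin' M
  have hL : ∀ t, en (L.lTensor C t) = (M.map (algebraMap D C)).mulVec (em t) := fun t => by
    induction t using TensorProduct.induction_on with
    | zero => simp
    | add a b ha hb => simp only [map_add, ha, hb, Matrix.mulVec_add]
    | tmul c w =>
      funext i
      simp [em, en, L, Matrix.mulVec, dotProduct, Finset.sum_smul, Algebra.smul_def, map_sum, Finset.sum_mul]
      exact Finset.sum_congr rfl fun j _ => by ring
  have h0 : L.lTensor C (em.symm v) = 0 := by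
    apply en.injective
    rw [hL, LinearEquiv.apply_symm_apply, h, map_zero]
  have hex : Function.Exact (LinearMap.ker L).subtype L := LinearMap.exact_subtype_ker_map L
  obtain ⟨t, ht⟩ := (Module.Flat.lTensor_exact C hex (em.symm v)).1 h0
  rw [← LinearEquiv.apply_symm_apply em v, ← ht]
  clear ht h0
  induction t using TensorProduct.induction_on with
  | zero => simp
  | add a b ha hb => simp only [map_add]; exact Submodule.add_mem _ ha hb
  | tmul c w =>
    have e : em ((LinearMap.ker L).subtype.lTensor C (c ⊗ₜ w)) = c • (algebraMap D C ∘ (w : Fin m → D)) := by
      funext i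
      simp [em, Algebra.smul_def, mul_comm]
    rw [e]
    exact Submodule.smul_mem _ _ (Submodule.subset_span ⟨w, LinearMap.mem_ker.1 w.2, rfl⟩)

end Groth.Agent.CompDim
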