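import Groth.Agent.CompDim.Core
import Groth.Agent.BrnchLib.NormBij
import Groth.Agent.CplFib6.Quot
import Groth.Agent.CplFib6.Setup
import Groth.Agent.FlatLoc6.Cpl

/-!
# Small components of the completion and of the normalization
-/

set_option autoImplicit false
set_option linter.style.haveILetI false
set_option linter.unusedSectionVars false

universe u

open IsLocalRing

namespace Groth.Agent.CompDim

/-- Some irreducible component has dimension at most one. -/
def Small (R : Type u) [CommRing R] : Prop :=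
  ∃ P ∈ minimalPrimes R, ∀ Q : Ideal R, Q.IsPrime → P < Q → Q.IsMaximal

/-- Some maximal ideal of the normalization has height at most one. -/
def NormSmall (A : Type u) [CommRing A] : Prop :=
  ∃ p ∈ minimalPrimes A, ∃ m' : Ideal (CAlg2.normRed (A ⧸ p)), m'.IsMaximal ∧ m'.height ≤ 1

theorem Small.of_equiv {R S : Type u} [CommRing R] [CommRing S] (e : R ≃+* S) (h : Small R) : Small S := by
  obtain ⟨P, hP, hmax⟩ := h
  haveI := hP.isPrime
  have hce : ∀ J : Ideal R, (J.comap e.symm.toRingHom).comap e.toRingHom = J := fun J => by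
    ext x; simp
  have hec : ∀ J : Ideal S, (J.comap e.toRingHom).comap e.symm.toRingHom = J := fun J => by
    rw [Ideal.comap_comap]
    refine (congrArg (fun f => Ideal.comap f J) (RingHom.ext fun x => ?_)).trans (Ideal.comap_id J)
    exact e.apply_symm_apply x
  refine ⟨P.comap e.symm.toRingHom, ⟨⟨Ideal.IsPrime.comap _, bot_le⟩, fun q hq hle => ?_⟩, fun Q hQ hlt => ?_⟩
  · haveI := hq.1
    have := hP.2 ⟨Ideal.IsPrime.comap e.toRingHom, bot_le⟩ ((Ideal.comap_mono hle).trans_eq (hce P))
    exact (Ideal.comap_mono this).trans_eq (hec q)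
  · haveI := hQ
    have h1 : P < Q.comap e.toRingHom := by
      refine lt_of_le_of_ne ((hce P).ge.trans (Ideal.comap_mono hlt.le)) fun he => hlt.ne ?_
      rw [he, hec]
    haveI := hmax _ (Ideal.IsPrime.comap e.toRingHom) h1
    rw [← hec Q]
    exact Ideal.comap_isMaximal_of_surjective e.symm.toRingHom e.symm.surjective

/-- The dimension of the components through `Small`. -/
theorem forall_two_le_iff (R : Type u) [CommRing R] [IsLocalRing R] :
    (∀ p ∈ minimalPrimes R, (2 : WithBot ℕ∞) ≤ ringKrullDim (R ⧸ p)) ↔ ¬ Small R := by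
  rw [Small, not_exists]
  refine forall_congr' fun p => ?_
  rw [not_and]
  refine imp_congr_right fun hp => ?_
  haveI := hp.isPrime
  haveI : IsLocalRing (R ⧸ p) := IsLocalRing.of_surjective' (Ideal.Quotient.mk p) Ideal.Quotient.mk_surjective
  rw [← IsLocalRing.maximalIdeal_height_eq_ringKrullDim, show (2 : WithBot ℕ∞) = ((2 : ℕ∞) : WithBot ℕ∞) from rfl,
    WithBot.coe_le_coe, ← not_lt, ← one_add_one_eq_two, ENat.lt_add_one_iff ENat.one_ne_top]
  refine not_congr ⟨fun h Q hQ hlt => ?_, fun h => height_le_one_of_forall fun q hq hlt => ?_⟩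
  · have hker : RingHom.ker (Ideal.Quotient.mk p) ≤ Q := by rw [Ideal.mk_ker]; exact hlt.le
    haveI := Ideal.map_isPrime_of_surjective (H := hQ) Ideal.Quotient.mk_surjective hker
    have hc : (Q.map (Ideal.Quotient.mk p)).comap (Ideal.Quotient.mk p) = Q := by
      rw [Ideal.comap_map_of_surjective _ Ideal.Quotient.mk_surjective, ← RingHom.ker_eq_comap_bot, sup_eq_left.2 hker]
    rcases (IsLocalRing.le_maximalIdeal (J := Q.map (Ideal.Quotient.mk p)) Ideal.IsPrime.ne_top').lt_or_eq with h1 | h1
    · have h0 := mem_minimalPrimes_of_height_le_one h h1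
      rw [IsDomain.minimalPrimes_eq_singleton_bot, Set.mem_singleton_iff, Ideal.map_eq_bot_iff_le_ker,
        Ideal.mk_ker] at h0
      exact absurd h0 hlt.not_ge
    · rw [← hc, h1]
      exact Ideal.comap_isMaximal_of_surjective _ Ideal.Quotient.mk_surjective
  · haveI := hq
    rw [IsDomain.minimalPrimes_eq_singleton_bot, Set.mem_singleton_iff]
    by_contra hne
    have hlt' : p < q.comap (Ideal.Quotient.mk p) := by
      refine lt_of_le_of_ne (fun x hx => by
        rw [Ideal.mem_comap, Ideal.Quotient.eq_zero_iff_mem.2 hx]; exact q.zero_mem) fun he => hne ?_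
      rw [← Ideal.map_comap_of_surjective _ Ideal.Quotient.mk_surjective q, ← he, Ideal.map_quotient_self]
    haveI := h _ (Ideal.IsPrime.comap _) hlt'
    have h2 : (q.comap (Ideal.Quotient.mk p)).map (Ideal.Quotient.mk p) = q :=
      Ideal.map_comap_of_surjective _ Ideal.Quotient.mk_surjective q
    have hmax : q.IsMaximal := by
      rcases Ideal.map_eq_top_or_isMaximal_of_surjective (Ideal.Quotient.mk p) Ideal.Quotient.mk_surjective
        ‹(q.comap (Ideal.Quotient.mk p)).IsMaximal› with h3 | h3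
      · exact absurd (h2 ▸ h3) hq.ne_top
      · exact h2 ▸ h3
    exact hlt.ne (IsLocalRing.eq_maximalIdeal hmax)

theorem forall_two_le_normRed_iff (A : Type u) [CommRing A] [IsNoetherianRing A] :
    (∀ m' : MaximalSpectrum (CAlg2.normRed A), (2 : WithBot ℕ∞) ≤ ringKrullDim (Localization.AtPrime m'.asIdeal)) ↔
      ¬ NormSmall A := by
  haveI : Finite (minimalPrimes A) := (Ideal.finite_minimalPrimes_of_isNoetherianRing A ⊥).to_subtype
  let S := BrnchLib.comps A
  have hpt : ∀ (p : minimalPrimes A) (m : MaximalSpectrum (CAlg2.normRed (A ⧸ p.1))),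
      (S.pull ⟨p, m⟩).asIdeal.height ≤ 1 ↔ m.asIdeal.height ≤ 1 := by
    intro p m
    haveI := m.isMaximal
    haveI := (S.pull ⟨p, m⟩).isMaximal
    have hS : (S.pull ⟨p, m⟩).asIdeal = m.asIdeal.comap (S.proj p) := rfl
    have hone : ∀ j, RingHom.ker (S.proj j) ≤ (S.pull ⟨p, m⟩).asIdeal → j = p := fun j hj => by
      by_contra hne
      obtain ⟨e, he, he'⟩ := S.exists_idem p
      have := hj (RingHom.mem_ker.2 (he' j hne))
      rw [hS, Ideal.mem_comap, he] at this
      exact m.isMaximal.ne_top ((Ideal.eq_top_iff_one _).2 this)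
    constructor
    · intro h
      refine height_le_one_of_forall fun q hq hlt => ?_
      haveI := hq
      haveI : (q.comap (S.proj p)).IsPrime := Ideal.IsPrime.comap _
      have hlt' : q.comap (S.proj p) < (S.pull ⟨p, m⟩).asIdeal :=
        hS ▸ lt_of_le_of_ne (Ideal.comap_mono hlt.le) fun he =>
          hlt.ne (Ideal.comap_injective_of_surjective _ (S.proj_surjective p) he)
      obtain ⟨j, hj⟩ := (BrnchLib.mem_minimalPrimes_iff S _).1 (mem_minimalPrimes_of_height_le_one h hlt')
      obtain rfl := hone j (hj ▸ hlt'.le)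
      refine (Set.ext_iff.1 (IsDomain.minimalPrimes_eq_singleton_bot (CAlg2.normRed (A ⧸ j.1))) q).2 ?_
      rw [Set.mem_singleton_iff, ← Ideal.map_comap_of_surjective _ (S.proj_surjective j) q, hj,
        Ideal.map_eq_bot_iff_le_ker]
    · intro h
      refine height_le_one_of_forall fun q hq hlt => ?_
      haveI := hq
      obtain ⟨j, hj⟩ := BrnchLib.exists_ker_le S q
      obtain rfl := hone j (hj.trans hlt.le)
      haveI := Ideal.map_isPrime_of_surjective (S.proj_surjective j) hj
      have hc : (q.map (S.proj j)).comap (S.proj j) = q := by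
        rw [Ideal.comap_map_of_surjective _ (S.proj_surjective j), ← RingHom.ker_eq_comap_bot, sup_eq_left.2 hj]
      have hlt' : q.map (S.proj j) < m.asIdeal := lt_of_le_of_ne (Ideal.map_le_iff_le_comap.2 (hS ▸ hlt.le)) fun he =>
        hlt.ne (hc.symm.trans (by rw [he]; exact hS.symm))
      have h0 := mem_minimalPrimes_of_height_le_one h hlt'
      replace h0 := Set.mem_singleton_iff.1
        ((Set.ext_iff.1 (IsDomain.minimalPrimes_eq_singleton_bot (CAlg2.normRed (A ⧸ j.1))) _).1 h0)
      rw [BrnchLib.mem_minimalPrimes_iff S]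
      exact ⟨j, by rw [← hc, h0, RingHom.ker_eq_comap_bot]⟩
  have key : ∀ m' : MaximalSpectrum (CAlg2.normRed A),
      (2 : WithBot ℕ∞) ≤ ringKrullDim (Localization.AtPrime m'.asIdeal) ↔ ¬ m'.asIdeal.height ≤ 1 := fun m' => by
    rw [IsLocalization.AtPrime.ringKrullDim_eq_height m'.asIdeal (Localization.AtPrime m'.asIdeal), show (2 : WithBot ℕ∞) = ((2 : ℕ∞) : WithBot ℕ∞) from rfl,
      WithBot.coe_le_coe, ← not_lt, ← one_add_one_eq_two, ENat.lt_add_one_iff ENat.one_ne_top]
  simp only [key]
  rw [← not_exists, not_iff_not]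
  constructor
  · rintro ⟨m', hm'⟩
    obtain ⟨⟨p, m⟩, rfl⟩ := S.pull_bijective.2 m'
    exact ⟨p.1, p.2, m.asIdeal, m.isMaximal, (hpt p m).1 hm'⟩
  · rintro ⟨p, hp, m, hm, hht⟩
    exact ⟨S.pull ⟨⟨p, hp⟩, ⟨m, hm⟩⟩, (hpt ⟨p, hp⟩ ⟨m, hm⟩).2 hht⟩

variable (A : Type u) [CommRing A] [IsNoetherianRing A] [IsLocalRing A]

/-- The completion has a small component iff the normalization has a maximal ideal of small height. -/
theorem small_cpl_iff : Small (EGA4.Cpl A) ↔ NormSmall A := by
  haveI := FlatLoc6.isLocalRing_cpl A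
  haveI := FlatLoc6.isNoetherianRing_cpl A
  haveI := FlatLoc6.faithfullyFlat_cpl A
  haveI := CplFib6.isAdicComplete_cpl A
  haveI : Algebra.HasGoingDown A (EGA4.Cpl A) := Algebra.HasGoingDown.of_flat
  have hmA : (maximalIdeal A).map (algebraMap A (EGA4.Cpl A)) = maximalIdeal (EGA4.Cpl A) :=
    (AdicCompletion.maximalIdeal_eq_map_of_fg (IsNoetherian.noetherian _)).symm
  -- the translation for one component of the base
  have step : ∀ (p : Ideal A) (hp : p ∈ minimalPrimes A),
      Small (EGA4.Cpl A ⧸ p.map (algebraMap A (EGA4.Cpl A))) ↔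
        ∃ m' : Ideal (CAlg2.normRed (A ⧸ p)), m'.IsMaximal ∧ m'.height ≤ 1 := by
    intro p hp
    haveI := hp.isPrime
    let T := EGA4.Cpl A
    let C := T ⧸ p.map (algebraMap A T)
    let D := CAlg2.red (A ⧸ p)
    haveI : IsDomain D := BrnchLib.instIsDomainRed A ⟨p, hp⟩
    haveI : IsLocalRing (A ⧸ p) := IsLocalRing.of_surjective' (Ideal.Quotient.mk p) Ideal.Quotient.mk_surjective
    have hpT : p.map (algebraMap A T) ≠ ⊤ := ne_top_of_le_ne_top (maximalIdeal.isMaximal T).ne_top
      (hmA ▸ Ideal.map_mono (IsLocalRing.le_maximalIdeal hp.isPrime.ne_top))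
    haveI : Nontrivial C := Ideal.Quotient.nontrivial_iff.2 hpT
    haveI : IsLocalRing C := IsLocalRing.of_surjective' (Ideal.Quotient.mk _) Ideal.Quotient.mk_surjective
    haveI : IsAdicComplete (maximalIdeal C) C := CplFib6.isAdicComplete_quot _
    haveI : HenselianLocalRing C :=
      { is_henselian := fun g hg a₀ h₁ h₂ =>
          HenselianRing.is_henselian (I := maximalIdeal C) g hg a₀ h₁ (h₂.map _) }
    let φ : (A ⧸ p) ≃+* D := RingEquiv.ofBijective (Ideal.Quotient.mk (nilradical (A ⧸ p)))
      ⟨fun x y h => by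
        rw [Ideal.Quotient.eq, nilradical_eq_zero, Submodule.zero_eq_bot, Ideal.mem_bot, sub_eq_zero] at h
        exact h, Ideal.Quotient.mk_surjective⟩
    haveI : IsLocalRing D := IsLocalRing.of_surjective' φ.toRingHom φ.surjective
    haveI : IsNoetherianRing D := isNoetherianRing_of_ringEquiv (A ⧸ p) φ
    have hflat : (algebraMap (A ⧸ p) C).Flat := RingHom.flat_algebraMap_iff.2 (CplFib6.flat_quot p)
    letI : Algebra D C := ((algebraMap (A ⧸ p) C).comp φ.symm.toRingHom).toAlgebra
    have hflat' : (algebraMap D C).Flat :=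
      RingHom.Flat.comp (RingHom.Flat.of_bijective φ.symm.bijective) hflat
    haveI : Module.Flat D C := hflat'
    have hq : ∀ a : A, algebraMap D C (φ (Ideal.Quotient.mk p a)) = Ideal.Quotient.mk _ (algebraMap A T a) :=
      fun a => by
        show algebraMap (A ⧸ p) C (φ.symm (φ (Ideal.Quotient.mk p a))) = _
        rw [RingEquiv.symm_apply_apply]
        rfl
    have hmap : (maximalIdeal D).map (algebraMap D C) = maximalIdeal C := by
      rw [← map_maximalIdeal_of_surjective φ.toRingHom φ.surjective,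
        ← map_maximalIdeal_of_surjective (Ideal.Quotient.mk p) Ideal.Quotient.mk_surjective,
        ← map_maximalIdeal_of_surjective (Ideal.Quotient.mk (p.map (algebraMap A T))) Ideal.Quotient.mk_surjective,
        ← hmA, Ideal.map_map, Ideal.map_map, Ideal.map_map]
      exact congrArg (fun f => Ideal.map f (maximalIdeal A)) (RingHom.ext hq)
    haveI : IsLocalHom (algebraMap D C) := ((local_hom_TFAE (algebraMap D C)).out 0 2).mpr hmap.le
    haveI : Module.FaithfullyFlat D C := Module.FaithfullyFlat.of_flat_of_isLocalHom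
    have hres : ∀ c : C, ∃ d : D, c - algebraMap D C d ∈ maximalIdeal C := fun c => by
      obtain ⟨t, rfl⟩ := Ideal.Quotient.mk_surjective c
      obtain ⟨a, ha⟩ := CplFib6.exists_sub_mem A t
      refine ⟨φ (Ideal.Quotient.mk p a), ?_⟩
      rw [hq, ← map_sub, ← map_maximalIdeal_of_surjective (Ideal.Quotient.mk (p.map (algebraMap A T)))
        Ideal.Quotient.mk_surjective]
      exact Ideal.mem_map_of_mem _ ha
    constructor
    · rintro ⟨P, hP, hmax⟩
      exact exists_maximal_height_le_one hmap hres hP fun R hR hlt => IsLocalRing.eq_maximalIdeal (hmax R hR hlt)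
    · rintro ⟨m', hm', hht⟩
      haveI := hm'
      obtain ⟨P, hP, hmax⟩ := exists_minimalPrime_dim_le_one hmap hres m' hht
      exact ⟨P, hP, fun R hR hlt => hmax R hR hlt ▸ maximalIdeal.isMaximal C⟩
  let T := EGA4.Cpl A
  constructor
  · rintro ⟨P, hP, hmax⟩
    haveI := hP.isPrime
    have hp : P.comap (algebraMap A T) ∈ minimalPrimes A := by
      refine ⟨⟨Ideal.IsPrime.comap _, bot_le⟩, fun q hq hle => ?_⟩
      haveI := hq.1
      haveI : P.LiesOver (P.comap (algebraMap A T)) := ⟨rfl⟩
      obtain ⟨P', hP'P, hP'p, hP'q⟩ := Ideal.exists_ideal_le_liesOver_of_le (S := T) P hle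
      have := le_antisymm hP'P (hP.2 ⟨hP'p, bot_le⟩ hP'P)
      rw [hP'q.over, this]
    refine ⟨_, hp, (step _ hp).1 ?_⟩
    let π := Ideal.Quotient.mk ((P.comap (algebraMap A T)).map (algebraMap A T))
    have hker : RingHom.ker π ≤ P := by rw [Ideal.mk_ker]; exact Ideal.map_comap_le
    haveI := Ideal.map_isPrime_of_surjective (f := π) Ideal.Quotient.mk_surjective hker
    have hc : (P.map π).comap π = P := by
      rw [Ideal.comap_map_of_surjective π Ideal.Quotient.mk_surjective, ← RingHom.ker_eq_comap_bot, sup_eq_left.2 hker]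
    refine ⟨P.map π, ⟨⟨inferInstance, bot_le⟩, fun q hq hle => ?_⟩, fun Q hQ hlt => ?_⟩
    · haveI := hq.1
      have := hP.2 ⟨Ideal.IsPrime.comap π, bot_le⟩ ((Ideal.comap_mono hle).trans_eq hc)
      exact Ideal.map_le_iff_le_comap.2 this
    · haveI := hQ
      have hlt' : P < Q.comap π := hc.symm.trans_lt <| lt_of_le_of_ne (Ideal.comap_mono hlt.le) fun he =>
        hlt.ne (Ideal.comap_injective_of_surjective π Ideal.Quotient.mk_surjective he)
      haveI := hmax _ (Ideal.IsPrime.comap π) hlt'
      rcases Ideal.map_eq_top_or_isMaximal_of_surjective π Ideal.Quotient.mk_surjective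
        ‹(Q.comap π).IsMaximal› with h | h
      · rw [Ideal.map_comap_of_surjective π Ideal.Quotient.mk_surjective] at h; exact absurd h hQ.ne_top
      · rwa [Ideal.map_comap_of_surjective π Ideal.Quotient.mk_surjective] at h
  · rintro ⟨p, hp, hm⟩
    obtain ⟨P, hP, hmax⟩ := (step p hp).2 hm
    haveI := hp.isPrime
    haveI := hP.isPrime
    let π := Ideal.Quotient.mk (p.map (algebraMap A T))
    refine ⟨P.comap π, ⟨⟨Ideal.IsPrime.comap π, bot_le⟩, fun q hq hle => ?_⟩, fun Q hQ hlt => ?_⟩
    · haveI := hq.1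
      have hPp : (P.comap π).comap (algebraMap A T) = p := by
        have hle' : p ≤ (P.comap π).comap (algebraMap A T) := fun a ha => by
          rw [Ideal.mem_comap, Ideal.mem_comap,
            Ideal.Quotient.eq_zero_iff_mem.2 (Ideal.mem_map_of_mem (algebraMap A T) ha)]
          exact P.zero_mem
        haveI : (P.comap π).IsPrime := Ideal.IsPrime.comap π
        haveI : (P.comap π).LiesOver ((P.comap π).comap (algebraMap A T)) := ⟨rfl⟩
        obtain ⟨P', hP'P, hP'p, hP'q⟩ :=
          Ideal.exists_ideal_le_liesOver_of_le (S := T) (p := p) (P.comap π) hle'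
        have hpP' : p.map (algebraMap A T) ≤ P' := Ideal.map_le_iff_le_comap.2 hP'q.over.le
        have hker : RingHom.ker π ≤ P' := by rw [Ideal.mk_ker]; exact hpP'
        haveI := Ideal.map_isPrime_of_surjective (f := π) Ideal.Quotient.mk_surjective hker
        have h := hP.2 ⟨inferInstance, bot_le⟩ (Ideal.map_le_iff_le_comap.2 hP'P)
        have : P.comap π ≤ P' := (Ideal.comap_mono h).trans_eq (by
          rw [Ideal.comap_map_of_surjective π Ideal.Quotient.mk_surjective, ← RingHom.ker_eq_comap_bot,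
            sup_eq_left.2 hker])
        rw [le_antisymm this hP'P]
        exact hP'q.over.symm
      haveI : (q.comap (algebraMap A T)).IsPrime := Ideal.IsPrime.comap _
      have h1 : p ≤ q.comap (algebraMap A T) :=
        hp.2 ⟨inferInstance, bot_le⟩ ((Ideal.comap_mono hle).trans_eq hPp)
      have hker : RingHom.ker π ≤ q := by rw [Ideal.mk_ker]; exact Ideal.map_le_iff_le_comap.2 h1
      haveI := Ideal.map_isPrime_of_surjective (f := π) Ideal.Quotient.mk_surjective hker
      have h := hP.2 ⟨inferInstance, bot_le⟩ (Ideal.map_le_iff_le_comap.2 hle)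
      exact (Ideal.comap_mono h).trans_eq (by
        rw [Ideal.comap_map_of_surjective π Ideal.Quotient.mk_surjective, ← RingHom.ker_eq_comap_bot,
          sup_eq_left.2 hker])
    · haveI := hQ
      have hker : RingHom.ker π ≤ Q := le_trans (fun x hx => by
        rw [Ideal.mem_comap, RingHom.mem_ker.1 hx]; exact P.zero_mem) hlt.le
      haveI := Ideal.map_isPrime_of_surjective (f := π) Ideal.Quotient.mk_surjective hker
      have hc : (Q.map π).comap π = Q := by
        rw [Ideal.comap_map_of_surjective π Ideal.Quotient.mk_surjective, ← RingHom.ker_eq_comap_bot, sup_eq_left.2 hker]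
      have hlt' : P < Q.map π := lt_of_le_of_ne (by
          rw [← Ideal.map_comap_of_surjective π Ideal.Quotient.mk_surjective P]; exact Ideal.map_mono hlt.le)
        fun he => hlt.ne (by rw [he, hc])
      haveI := hmax _ inferInstance hlt'
      rw [← hc]
      exact Ideal.comap_isMaximal_of_surjective π Ideal.Quotient.mk_surjective

/-- For a henselian local ring the normalization is small iff the ring is. -/
theorem normSmall_iff_small [HenselianLocalRing A] : NormSmall A ↔ Small A := by
  refine exists_congr fun p => and_congr_right fun hp => ?_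
  haveI := hp.isPrime
  let N := CAlg2.normRed (A ⧸ p)
  haveI : IsDomain (CAlg2.red (A ⧸ p)) := BrnchLib.instIsDomainRed A ⟨p, hp⟩
  haveI : Algebra.IsIntegral (A ⧸ p) N := BrnchLib.isIntegral_normRed (A := A ⧸ p)
  letI : Algebra A N := ((algebraMap (A ⧸ p) N).comp (Ideal.Quotient.mk p)).toAlgebra
  haveI : IsScalarTower A (A ⧸ p) N := IsScalarTower.of_algebraMap_eq fun _ => rfl
  haveI : Algebra.IsIntegral A N := Algebra.IsIntegral.trans (A ⧸ p)
  haveI : IsLocalRing N := Hensel.isLocalRing_of_isIntegral_domain A N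
  have hinj : Function.Injective (algebraMap (A ⧸ p) N) := fun x y h => by
    rw [IsScalarTower.algebraMap_apply (A ⧸ p) (CAlg2.red (A ⧸ p)) N,
      IsScalarTower.algebraMap_apply (A ⧸ p) (CAlg2.red (A ⧸ p)) N] at h
    have h' : algebraMap (A ⧸ p) (CAlg2.red (A ⧸ p)) x = algebraMap (A ⧸ p) (CAlg2.red (A ⧸ p)) y :=
      IsFractionRing.injective (CAlg2.red (A ⧸ p)) (FractionRing (CAlg2.red (A ⧸ p))) (congrArg Subtype.val h)
    rw [Ideal.Quotient.algebraMap_eq, Ideal.Quotient.eq, nilradical_eq_zero, Submodule.zero_eq_bot, Ideal.mem_bot,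
      sub_eq_zero] at h'
    exact h'
  have hker : ∀ a : A, algebraMap A N a = 0 ↔ a ∈ p := fun a => by
    rw [IsScalarTower.algebraMap_apply A (A ⧸ p) N, map_eq_zero_iff _ hinj, Ideal.Quotient.algebraMap_eq,
      Ideal.Quotient.eq_zero_iff_mem]
  constructor
  · rintro ⟨m', hm', hht⟩ J hJ hlt
    haveI := hm'
    haveI := hJ
    obtain ⟨J', -, hJ'p, hJ'⟩ := Ideal.exists_ideal_over_prime_of_isIntegral (S := N) J ⊥
      (fun a ha => hlt.le ((hker a).1 ha))
    haveI := hJ'p
    have hJ'm : J' ≤ m' := by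
      rw [IsLocalRing.eq_maximalIdeal hm']
      exact IsLocalRing.le_maximalIdeal hJ'p.ne_top
    rcases hJ'm.lt_or_eq with h | h
    · have h0 := mem_minimalPrimes_of_height_le_one hht h
      rw [IsDomain.minimalPrimes_eq_singleton_bot, Set.mem_singleton_iff] at h0
      exact absurd (fun a ha => (hker a).1 ((Submodule.mem_bot N).1 (h0 ▸ hJ'.ge ha))) hlt.not_ge
    · rw [← hJ', h]
      exact Ideal.isMaximal_comap_of_isIntegral_of_isMaximal m'
  · intro h
    refine ⟨maximalIdeal N, inferInstance, height_le_one_of_forall fun q hq hlt => ?_⟩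
    haveI := hq
    rw [IsDomain.minimalPrimes_eq_singleton_bot, Set.mem_singleton_iff]
    refine Ideal.eq_bot_of_comap_eq_bot (R := A ⧸ p) ?_
    by_contra hne
    have hle : p ≤ q.comap (algebraMap A N) := fun a ha => by
      rw [Ideal.mem_comap, (hker a).2 ha]; exact q.zero_mem
    have hlt' : p < q.comap (algebraMap A N) := by
      refine lt_of_le_of_ne hle fun he => hne (le_bot_iff.1 fun x hx => ?_)
      obtain ⟨a, rfl⟩ := Ideal.Quotient.mk_surjective x
      rw [Ideal.mem_bot, Ideal.Quotient.eq_zero_iff_mem, he]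
      exact hx
    haveI := h _ (Ideal.IsPrime.comap (algebraMap A N)) hlt'
    exact hlt.ne (IsLocalRing.eq_maximalIdeal
      (Ideal.isMaximal_of_isIntegral_of_isMaximal_comap q ‹(q.comap (algebraMap A N)).IsMaximal›))

/-- Smallness of the completion descends along a flat local map with trivial closed fibre. -/
theorem small_cpl_of_small (B : Type u) [CommRing B] [IsNoetherianRing B] [IsLocalRing B] [Algebra A B]
    [IsLocalHom (algebraMap A B)] [Module.Flat A B]
    (hm : (maximalIdeal A).map (algebraMap A B) = maximalIdeal B) (h : Small (EGA4.Cpl A)) :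
    Small (EGA4.Cpl B) := by
  haveI := FlatLoc6.isLocalRing_cpl A
  haveI := FlatLoc6.isLocalRing_cpl B
  haveI := FlatLoc6.isNoetherianRing_cpl B
  obtain ⟨alg, hT, hff⟩ := FlatLoc6.exists_cplHom A B
  letI := alg
  haveI := hT
  haveI := hff
  let T := EGA4.Cpl A
  let T' := EGA4.Cpl B
  obtain ⟨P, hP, hmax⟩ := h
  haveI := hP.isPrime
  have hmA : (maximalIdeal A).map (algebraMap A T) = maximalIdeal T :=
    (AdicCompletion.maximalIdeal_eq_map_of_fg (IsNoetherian.noetherian _)).symm
  have hmax' : (maximalIdeal T).map (algebraMap T T') = maximalIdeal T' := by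
    rw [← hmA, Ideal.map_map, ← IsScalarTower.algebraMap_eq, IsScalarTower.algebraMap_eq A B T',
      ← Ideal.map_map, hm]
    exact (AdicCompletion.maximalIdeal_eq_map_of_fg (IsNoetherian.noetherian _)).symm
  obtain ⟨Q, hQmin, hQc⟩ := Ideal.exists_minimalPrimes_comap_eq (I := P.map (algebraMap T T')) (algebraMap T T') P
    (by rw [Ideal.comap_map_eq_self_of_faithfullyFlat, Ideal.minimalPrimes_eq_subsingleton_self]
        exact Set.mem_singleton _)
  haveI := hQmin.isPrime
  refine ⟨Q, ⟨⟨inferInstance, bot_le⟩, fun q hq hle => ?_⟩, fun R hR hlt => ?_⟩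
  · haveI := hq.1
    have h1 := hP.2 ⟨Ideal.IsPrime.comap (algebraMap T T'), bot_le⟩ ((Ideal.comap_mono hle).trans_eq hQc)
    exact hQmin.2 ⟨hq.1, Ideal.map_le_iff_le_comap.2 h1⟩ hle
  -- `R` strictly contains `Q`
  by_cases hPm : P = maximalIdeal T
  · have : maximalIdeal T' ≤ Q := by rw [← hmax', ← hPm]; exact hQmin.le
    exact absurd (le_antisymm (IsLocalRing.le_maximalIdeal hR.ne_top) (this.trans hlt.le) ▸ this : R ≤ Q) hlt.not_ge
  obtain ⟨x, hxm, hxP⟩ := SetLike.not_le_iff_exists.1 fun hle : maximalIdeal T ≤ P =>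
    hPm (le_antisymm (IsLocalRing.le_maximalIdeal hP.isPrime.ne_top) hle)
  have hx : ∀ J : Ideal T', J.IsPrime → Q ≤ J → algebraMap T T' x ∈ J → J = maximalIdeal T' := by
    intro J hJ hQJ hxJ
    haveI := hJ
    have hlt2 : P < J.comap (algebraMap T T') :=
      lt_of_le_of_ne (hQc ▸ Ideal.comap_mono hQJ) fun he => hxP (he ▸ hxJ)
    have h2 := IsLocalRing.eq_maximalIdeal (hmax _ (Ideal.IsPrime.comap _) hlt2)
    refine le_antisymm (IsLocalRing.le_maximalIdeal hJ.ne_top) ?_
    rw [← hmax', Ideal.map_le_iff_le_comap, h2]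
  haveI := hR
  let π := Ideal.Quotient.mk Q
  haveI : IsLocalRing (T' ⧸ Q) := IsLocalRing.of_surjective' π Ideal.Quotient.mk_surjective
  have hmQ : (maximalIdeal T').map π = maximalIdeal (T' ⧸ Q) :=
    map_maximalIdeal_of_surjective π Ideal.Quotient.mk_surjective
  have hxT : algebraMap T T' x ∈ maximalIdeal T' := hmax' ▸ Ideal.mem_map_of_mem _ hxm
  have hminx : maximalIdeal (T' ⧸ Q) ∈ (Ideal.span {π (algebraMap T T' x)}).minimalPrimes := by
    refine ⟨⟨inferInstance, ?_⟩, fun J hJ hJle => ?_⟩
    · rw [Ideal.span_singleton_le_iff_mem, ← hmQ]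
      exact Ideal.mem_map_of_mem _ hxT
    · haveI := hJ.1
      have h := hx (J.comap π) (Ideal.IsPrime.comap _)
        (fun c hc => by rw [Ideal.mem_comap, Ideal.Quotient.eq_zero_iff_mem.2 hc]; exact J.zero_mem)
        (hJ.2 (Ideal.mem_span_singleton_self _))
      rw [← hmQ, ← h, Ideal.map_comap_of_surjective π Ideal.Quotient.mk_surjective]
  have hht := Ideal.height_le_one_of_isPrincipal_of_mem_minimalPrimes _ _ hminx
  have hker : RingHom.ker π ≤ R := by rw [Ideal.mk_ker]; exact hlt.le
  haveI := Ideal.map_isPrime_of_surjective (f := π) Ideal.Quotient.mk_surjective hker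
  have hc : (R.map π).comap π = R := by
    rw [Ideal.comap_map_of_surjective π Ideal.Quotient.mk_surjective, ← RingHom.ker_eq_comap_bot, sup_eq_left.2 hker]
  rcases (IsLocalRing.le_maximalIdeal (J := R.map π) Ideal.IsPrime.ne_top').lt_or_eq with h | h
  · have h0 := mem_minimalPrimes_of_height_le_one hht h
    rw [IsDomain.minimalPrimes_eq_singleton_bot, Set.mem_singleton_iff, Ideal.map_eq_bot_iff_le_ker,
      Ideal.mk_ker] at h0
    exact absurd h0 hlt.not_ge
  · rw [← hc, h]
    exact Ideal.comap_isMaximal_of_surjective π Ideal.Quotient.mk_surjective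

end Groth.Agent.CompDim
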